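import Mathlib
import Cfsg.Agent.Lib.Comput.Check3
import Cfsg.Agent.Lib.McLR3.R.Data

/-! generated by tools/cgt -/

set_option autoImplicit false
set_option maxRecDepth 100000
set_option Elab.async false

namespace CfsgLib.McLR3.R

open CfsgLib.Comput

def R5_0 : RepC := ⟨22, 1, [],
  []⟩
def R5_1 : RepC := ⟨23, 1, [],
  []⟩
def S5_0 : GenC := ⟨23, [],
  [(0, 0, 0, 2, 0), (0, 1, 0, 0, 0), (0, 2, 0, 1, 0)], 0⟩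
def L5 : Level := ⟨0x0, 0x600000, [], 1, 3, 0, 3, [R5_0, R5_1], [S5_0]⟩
def X5 : Ext := [(21, 23, 0)]

def R4_0 : RepC := ⟨18, 1, [(22, 22)],
  [(22, 2, [1])]⟩
def R4_1 : RepC := ⟨19, 1, [(22, 22)],
  [(23, 2, [1])]⟩
def R4_2 : RepC := ⟨20, 1, [(22, 23)],
  [(23, 2, [1])]⟩
def R4_3 : RepC := ⟨0x1314, 1, [(23, 22)],
  [(3, 2, [1])]⟩
def R4_4 : RepC := ⟨0x1413, 1, [(22, 23)],
  [(22, 2, [1])]⟩
def S4_0 : GenC := ⟨19, [(23, 23)],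
  [(0, 0, 0, 2, 0), (0, 1, 0, 0, 0), (0, 2, 0, 1, 0), (0, 3, 0, 4, 0), (0, 4, 0, 5, 0), (0, 5, 0, 3, 0)], 0⟩
def S4_1 : GenC := ⟨20, [(23, 22)],
  [(0, 0, 0, 3, 0), (0, 1, 0, 4, 0), (0, 2, 0, 5, 0), (0, 3, 0, 0, 0), (0, 4, 0, 1, 0), (0, 5, 0, 2, 0)], 0⟩
def L4 : Level := ⟨0x600000, 0x7e0000, [23], 3, 16, 0, 6, [R4_0, R4_1, R4_2, R4_3, R4_4], [S4_0, S4_1]⟩
def X4 : Ext := [(17, 19, 0), (20, 0, 0x1416)]

def R3_0 : RepC := ⟨25, 1, [(0x1413, 20), (20, 0x1314), (0x1216, 0x1216)],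
  [(20, 2, [1, 2, 3]), (3, 1, [1])]⟩
def R3_1 : RepC := ⟨24, 1, [(0x1314, 20), (22, 22), (20, 0x1413)],
  [(23, 2, [1, 2, 3]), (3, 1, [1])]⟩
def R3_2 : RepC := ⟨14, 6, [(0x1217, 0x1316)],
  [(68, 2, [1])]⟩
def R3_3 : RepC := ⟨10, 6, [(0x1216, 0x1216)],
  [(21, 2, [1])]⟩
def R3_4 : RepC := ⟨0x1018, 6, [(23, 23)],
  [(3, 2, [1])]⟩
def R3_5 : RepC := ⟨11, 6, [(19, 18)],
  [(69, 2, [1])]⟩
def S3_0 : GenC := ⟨24, [(20, 0x1314), (18, 18), (22, 22)],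
  [(0, 0, 0, 2, 0), (0, 3, 23, 3, 0x1317), (0, 4, 22, 4, 0x1217), (0, 5, 0, 5, 18), (0, 6, 23, 6, 0x1317), (0, 1, 0, 0, 0), (0, 2, 0, 1, 0)], 2⟩
def S3_1 : GenC := ⟨14, [(0x1316, 0x1217)],
  [(0, 0, 0, 3, 0), (0, 3, 0, 0, 0), (22, 3, 0, 2, 0x1317), (0, 4, 23, 6, 19), (20, 4, 0, 5, 0x1317), (0, 5, 20, 4, 0x1216), (20, 5, 0x1417, 6, 22), (0, 6, 22, 4, 0x1216), (0, 1, 23, 3, 0x1317), (20, 6, 0x1314, 5, 0x1316), (0, 2, 22, 3, 0x1216), (21, 3, 21, 3, 0x1416), (23, 3, 0, 1, 0x1216), (0x1417, 3, 0x1417, 3, 0x1417), (20, 3, 20, 3, 20)], 2⟩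
def S3_2 : GenC := ⟨9, [(0x1317, 0x1317)],
  [(0, 0, 0x1417, 4, 0x1417), (0, 3, 0, 6, 0x1316), (0, 4, 0, 0, 0), (0x1417, 4, 0, 4, 0x1417), (0, 5, 22, 3, 0x1314), (20, 5, 21, 6, 0x141317), (0, 6, 18, 5, 20), (0, 1, 20, 4, 0x1413), (20, 6, 21, 3, 18), (0, 2, 21, 4, 0x131416), (21, 4, 23, 4, 20), (21, 3, 0x1413, 5, 20), (22, 4, 0, 1, 0x1216), (20, 4, 22, 4, 0x1416), (23, 4, 0, 2, 0x1317)], 2⟩
def L3 : Level := ⟨0x7e0000, 0x1ffe700, [19, 20, 23], 18, 2, 0, 27, [R3_0, R3_1, R3_2, R3_3, R3_4, R3_5], [S3_0, S3_1, S3_2]⟩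
def X3 : Ext := [(24, 24, 0), (9, 9, 0), (14, 0, 0xe18), (15, 0, 0xa0e1416), (16, 16, 0), (10, 0, 0x90e1217)]

def R2_0 : RepC := ⟨13, 1, [(0x100f13, 0xb1916), (0x1816, 0x191216), (0x100f, 11), (0xe17, 0xf16), (0xe09, 0x100e)],
  [(67, 2, [1, 2, 3, 4, 5]), (106, 2, [1, 2, 3]), (98, 1, [1])]⟩
def S2_0 : GenC := ⟨13, [(0x100e17, 0xe091317)],
  [(0, 0, 0, 1, 0), (0, 1, 0, 0, 14)], 0⟩
def L2 : Level := ⟨0x1ffe700, 0x1ffff00, [24, 14, 9, 19, 20, 23], 486, 4, 0, 2, [R2_0], [S2_0]⟩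
def X2 : Ext := [(11, 13, 0)]

def R1_0 : RepC := ⟨0x51706, 2, [(0x150e1314, 0x140e14), (0x1816, 0x1816), (0x150f1314, 0x150e141317), (0xe11, 0xe1113), (0xb19131417, 0xb181413)],
  [(66, 2, [1, 2, 3, 4, 5]), (38, 2, [1, 2, 3]), (81, 1, [1])]⟩
def R1_1 : RepC := ⟨5, 27, [(0xb181217, 0xa141316), (0xd11191417, 0xd0a1217)],
  [(9, 5, [1, 2]), (67, 1, [1])]⟩
def S1_0 : GenC := ⟨6, [(0x1916, 0x181216), (0xd0f1814, 0xd09131416)],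
  [(0, 0, 16, 2, 0xe09141317), (0, 2, 0, 0, 0), (16, 2, 12, 2, 0x9181416), (20, 2, 0x917, 2, 0xb181413), (23, 2, 0, 1, 0x181217), (0, 1, 0x1017, 2, 0xe09141317)], 3⟩
def L1 : Level := ⟨0x1ffff00, 0x1fffff0, [13, 24, 14, 9, 19, 20, 23], 972, 1, 0, 30, [R1_0, R1_1], [S1_0]⟩
def X1 : Ext := [(4, 6, 0), (6, 0, 0x15060d0b1317), (7, 7, 0)]

def R0_0 : RepC := ⟨0x61b, 30, [(0x150912, 0x8060d0b1813), (0x100e17, 0x90511141317), (0x131416, 0x140e14), (0xd091416, 0xe050d140e131416)],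
  [(60, 4, [1, 2, 3, 4]), (18, 2, [1, 2, 3]), (2, 1, [1])]⟩
def R0_1 : RepC := ⟨1, 81, [(0x150f1216, 0xa05131417), (0x609, 0x140510181316), (0x6140e1317, 0x9070d100e12)],
  [(106, 4, [1, 2, 3]), (75, 3, [1, 2])]⟩
def S0_0 : GenC := ⟨26, [(0xc06150e17, 0xd11181216), (0xf051816, 0x806150f141317)],
  [(0, 0, 0x1006, 1, 0x90519141316), (0, 2, 0, 2, 0x1405140e12), (10, 2, 0xe05, 1, 0x906100e13), (5, 1, 0, 0, 0), (0, 1, 0x517, 2, 0x16050d111913), (0x1605, 1, 0xd06, 1, 0x140611181417)], 5⟩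
def L0 : Level := ⟨0x1fffff0, 0x7ffffff, [6, 13, 24, 14, 9, 19, 20, 23], 29160, 0, 0, 112, [R0_0, R0_1], [S0_0]⟩
def X0 : Ext := [(26, 26, 0), (0, 0, 0x151a1a11070d1916), (1, 1, 0), (2, 0, 0xd10141317), (3, 3, 0)]

def top : List ℕ := [1, 3]
def gs : List ℕ := [26, 6, 13, 24, 14, 9, 19, 20, 23]
def XD : Ext := [(1, 1, 0), (3, 3, 0), (4, 0, 0x20402020404020401040402030103010301), (5, 5, 0), (6, 0, 0x20402020402040204020402030103010401010301), (7, 7, 0), (8, 0, 0x6080507070606080607), (9, 9, 0), (10, 0, 0x505070508060707), (11, 0, 0x50705070505), (12, 12, 0), (13, 0, 0xd0d), (14, 0, 0xd0a0b0c), (15, 0, 0xd090c), (16, 16, 0), (17, 0, 0xe0f0e110e11), (18, 18, 0), (19, 0, 0xe0f0e0f110b0a0e0f), (20, 0, 0x100a100e), (21, 0, 0x13141512), (22, 22, 0), (23, 0, 0xe0f), (24, 24, 0), (25, 0, 0x20402), (26, 26, 0)]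

/-- all the equations of the certificate -/
structure Eqs {G : Type*} [Group G] (g : ℕ → G) : Prop where
  l5 : AllHold g L5.eqns
  x5 : AllHold g X5.eqns
  l4 : AllHold g L4.eqns
  x4 : AllHold g X4.eqns
  l3 : AllHold g L3.eqns
  x3 : AllHold g X3.eqns
  l2 : AllHold g L2.eqns
  x2 : AllHold g X2.eqns
  l1 : AllHold g L1.eqns
  x1 : AllHold g X1.eqns
  l0 : AllHold g L0.eqns
  x0 : AllHold g X0.eqns
  xd : AllHold g XD.eqns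

end CfsgLib.McLR3.R
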